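import Mathlib
import Cfsg.Agent.Prune
set_option linter.all false
prune_inst 0x7f00000000000000000000000000000000000000000000000000000000000000000000000000000000000000000000000000000000000000000000000000000000000000000000000000000000000000003fffffffffffffffffffffffffffbeffbdffffffff
open scoped Cfsg.Agent.FastGrp

/-!
# Normal subgroups with cyclic centralisers (helper946)

`no_cyclic` : `A` a nontrivial normal elementary abelian `t`-subgroup of the finite group `G`, some `a ∈ A`, `a ≠ 1`, has a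
cyclic centraliser of order prime to `p` and `r`; `p`, `r` are different prime divisors of `|G|`. Then elements of orders
`p` and `r` commute.
-/

set_option autoImplicit false

namespace Cfsg.Agent.H946.Rad

variable {G : Type*} [Group G] [Finite G]

/-- the automorphism group of a cyclic group is commutative -/
theorem mulAut_comm {A : Type*} [Group A] (hA : IsCyclic A) (f g : MulAut A) : f * g = g * f := by
  obtain ⟨a, ha⟩ := hA.exists_generator
  have key : ∀ h : MulAut A, ∃ k : ℤ, ∀ b, h b = b ^ k := by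
    intro h
    obtain ⟨k, hk⟩ := Subgroup.mem_zpowers_iff.1 (ha (h a))
    refine ⟨k, fun b => ?_⟩
    obtain ⟨j, rfl⟩ := Subgroup.mem_zpowers_iff.1 (ha b)
    rw [map_zpow, ← hk, ← zpow_mul, ← zpow_mul, mul_comm]
  obtain ⟨k, hk⟩ := key f
  obtain ⟨j, hj⟩ := key g
  ext b
  rw [MulAut.mul_apply, MulAut.mul_apply, hk, hj, hj, hk, ← zpow_mul, ← zpow_mul, mul_comm]

theorem exists_pow_prime {x : G} {r : ℕ} (hd : r ∣ orderOf x) : orderOf (x ^ (orderOf x / r)) = r := by
  rw [orderOf_pow_of_dvd (Nat.div_pos (Nat.le_of_dvd (orderOf_pos x) hd)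
    (Nat.pos_of_dvd_of_pos hd (orderOf_pos x))).ne' (Nat.div_dvd_of_dvd hd)]
  exact Nat.div_div_self hd (orderOf_pos x).ne'

/-- if `[G, G]` centralises `A` and `p`, `r` do not divide `|C_G(A)|` then `p` and `r` are adjacent -/
theorem adjacent_of_comm {A : Type*} [Group A] (φ : G →* A) (hcomm : ∀ x y : G, φ x * φ y = φ y * φ x) {p r : ℕ}
    (hp : p.Prime) (hr : r.Prime) (hpr : p ≠ r) (hpG : p ∣ Nat.card G) (hrG : r ∣ Nat.card G)
    (hpC : ¬ p ∣ Nat.card ↥φ.ker) (hrC : ¬ r ∣ Nat.card ↥φ.ker) :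
    ∃ x y : G, orderOf x = p ∧ orderOf y = r ∧ Commute x y := by
  have := Fact.mk hp
  have := Fact.mk hr
  obtain ⟨x, hx⟩ := exists_prime_orderOf_dvd_card' p hpG
  obtain ⟨y, hy⟩ := exists_prime_orderOf_dvd_card' r hrG
  -- the normal subgroup `K = C ⟨x⟩`
  let K : Subgroup G :=
    { carrier := {g | ∃ k : ℤ, φ g = φ x ^ k}
      one_mem' := ⟨0, by simp⟩
      mul_mem' := by
        rintro a b ⟨k, hk⟩ ⟨j, hj⟩
        exact ⟨k + j, by rw [map_mul, hk, hj, zpow_add]⟩
      inv_mem' := by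
        rintro a ⟨k, hk⟩
        exact ⟨-k, by rw [map_inv, hk, zpow_neg]⟩ }
  have hK : K.Normal := by
    refine ⟨?_⟩
    rintro a ⟨k, hk⟩ g
    refine ⟨k, ?_⟩
    rw [map_mul, map_mul, map_inv, hcomm g a, mul_inv_cancel_right, hk]
  have hCK : φ.ker ≤ K := fun g hg => ⟨0, by rw [zpow_zero]; exact hg⟩
  have hxK : x ∈ K := ⟨1, by simp⟩
  -- the order of `K`
  have hKcard : Nat.card ↥K ∣ Nat.card ↥φ.ker * p := by
    let ψ : ↥K →* A := φ.comp K.subtype
    have h1 : Nat.card ↥ψ.range ∣ p := by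
      have h2 : ψ.range ≤ Subgroup.zpowers (φ x) := by
        rintro _ ⟨⟨g, k, hk⟩, rfl⟩
        exact Subgroup.mem_zpowers_iff.2 ⟨k, hk.symm⟩
      have h3 := Subgroup.card_dvd_of_le h2
      rw [Nat.card_zpowers] at h3
      exact h3.trans (by rw [← hx]; exact orderOf_map_dvd φ x)
    have h4 : Nat.card ↥ψ.ker ∣ Nat.card ↥φ.ker := by
      have h5 : ψ.ker.map K.subtype ≤ φ.ker := by
        rintro _ ⟨g, hg, rfl⟩
        exact hg
      have h6 := Subgroup.card_dvd_of_le h5
      rwa [Subgroup.card_map_of_injective K.subtype_injective] at h6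
    have h7 : Nat.card ↥K = Nat.card ↥ψ.ker * Nat.card ↥ψ.range := by
      rw [Subgroup.card_eq_card_quotient_mul_card_subgroup ψ.ker, mul_comm,
        Nat.card_congr (QuotientGroup.quotientKerEquivRange ψ).toEquiv]
    rw [h7]
    exact Nat.mul_dvd_mul h4 h1
  have hrK : ¬ r ∣ Nat.card ↥K := by
    intro h
    rcases hr.dvd_mul.1 (h.trans hKcard) with h | h
    · exact hrC h
    · exact hpr ((Nat.prime_dvd_prime_iff_eq hr hp).1 h).symm
  -- a Sylow `p`-subgroup of `K`
  obtain ⟨P⟩ : Nonempty (Sylow p ↥K) := inferInstance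
  have hsup := P.normalizer_sup_eq_top
  have hPK : (P : Subgroup ↥K).map K.subtype ⊓ φ.ker = ⊥ := by
    rw [eq_bot_iff]
    rintro g ⟨hg1, hg2⟩
    rw [Subgroup.mem_bot]
    by_contra hne
    obtain ⟨k, hk⟩ := (P.2.map K.subtype) ⟨g, hg1⟩
    have h1 : orderOf g ∣ p ^ k := orderOf_dvd_of_pow_eq_one (by simpa using congrArg Subtype.val hk)
    have h2 : p ∣ orderOf g := by
      obtain ⟨j, hj, hj'⟩ := (Nat.dvd_prime_pow hp).1 h1
      rw [hj']
      refine dvd_pow_self p ?_
      rintro rfl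
      rw [pow_zero, orderOf_eq_one_iff] at hj'
      exact hne hj'
    have h3 : orderOf g ∣ Nat.card ↥φ.ker := by
      have := orderOf_dvd_natCard (⟨g, hg2⟩ : ↥φ.ker)
      rwa [Subgroup.orderOf_mk] at this
    exact hpC (h2.trans h3)
  have hpK : p ∣ Nat.card ↥K := by
    have := orderOf_dvd_natCard (⟨x, hxK⟩ : ↥K)
    rwa [Subgroup.orderOf_mk, hx] at this
  obtain ⟨x', hx'P, hx'⟩ : ∃ x' ∈ (P : Subgroup ↥K).map K.subtype, orderOf x' = p := by
    have h1 : p ∣ Nat.card ↥(P : Subgroup ↥K) := P.dvd_card_of_dvd_card hpK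
    obtain ⟨z, hz⟩ := exists_prime_orderOf_dvd_card' p h1
    exact ⟨K.subtype z, ⟨_, z.2, rfl⟩, by
      rw [orderOf_injective K.subtype K.subtype_injective, Subgroup.orderOf_coe, hz]⟩
  -- `y = n k`
  obtain ⟨n, hn, k, hk, hnk⟩ : ∃ n ∈ Subgroup.normalizer ((P : Subgroup ↥K).map K.subtype : Set G), ∃ k ∈ K, n * k = y := by
    have h1 : y ∈ Subgroup.normalizer ((P : Subgroup ↥K).map K.subtype : Set G) ⊔ K := by
      rw [hsup]; trivial
    exact Subgroup.mem_sup_of_normal_right.1 h1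
  have hrn : r ∣ orderOf n := by
    have h1 : (QuotientGroup.mk' K) n = (QuotientGroup.mk' K) y := by
      rw [← hnk, map_mul, (QuotientGroup.eq_one_iff k).2 hk |> fun h => (show (QuotientGroup.mk' K) k = 1 from h), mul_one]
    have h2 : orderOf ((QuotientGroup.mk' K) y) = r := by
      have h3 : orderOf ((QuotientGroup.mk' K) y) ∣ r := by rw [← hy]; exact orderOf_map_dvd _ y
      rcases (Nat.dvd_prime hr).1 h3 with h | h
      · exfalso
        rw [orderOf_eq_one_iff] at h
        have h4 : y ∈ K := (QuotientGroup.eq_one_iff y).1 h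
        apply hrK
        have := orderOf_dvd_natCard (⟨y, h4⟩ : ↥K)
        rwa [Subgroup.orderOf_mk, hy] at this
      · exact h
    rw [← h2, ← h1]
    exact orderOf_map_dvd _ n
  have hn'r := exists_pow_prime hrn
  set n' := n ^ (orderOf n / r) with hn'
  have hn'N : n' ∈ Subgroup.normalizer ((P : Subgroup ↥K).map K.subtype : Set G) := pow_mem hn _
  refine ⟨x', n', hx', hn'r, ?_⟩
  have h1 : n' * x' * n'⁻¹ ∈ (P : Subgroup ↥K).map K.subtype := (Subgroup.mem_normalizer_iff.1 hn'N x').1 hx'P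
  have h2 : n' * x' * n'⁻¹ * x'⁻¹ ∈ (P : Subgroup ↥K).map K.subtype ⊓ φ.ker := by
    refine Subgroup.mem_inf.2 ⟨Subgroup.mul_mem _ h1 (Subgroup.inv_mem _ hx'P), ?_⟩
    rw [MonoidHom.mem_ker, map_mul, map_mul, map_mul, map_inv, map_inv, hcomm n' x', mul_inv_cancel_right,
      mul_inv_cancel]
  rw [hPK, Subgroup.mem_bot] at h2
  have h3 : n' * x' * n'⁻¹ = x' := mul_inv_eq_one.1 h2
  have h4 : n' * x' = x' * n' := by
    have := congrArg (fun z => z * n') h3
    simpa using this
  exact h4.symm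

/-- **A normal elementary abelian subgroup whose elements have cyclic centralisers.** -/
theorem no_cyclic {A : Subgroup G} [hAn : A.Normal] {a : G} (ha : a ∈ A)
    (hcyc : IsCyclic ↥(Subgroup.centralizer ({a} : Set G))) (hAc : ∀ x ∈ A, ∀ y ∈ A, x * y = y * x) {p r : ℕ}
    (hp : p.Prime) (hr : r.Prime) (hpr : p ≠ r) (hpG : p ∣ Nat.card G) (hrG : r ∣ Nat.card G)
    (hpC : ¬ p ∣ Nat.card ↥(Subgroup.centralizer ({a} : Set G)))
    (hrC : ¬ r ∣ Nat.card ↥(Subgroup.centralizer ({a} : Set G))) :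
    ∃ x y : G, orderOf x = p ∧ orderOf y = r ∧ Commute x y := by
  have hle : A ≤ Subgroup.centralizer ({a} : Set G) := by
    intro x hx
    rw [Subgroup.mem_centralizer_singleton_iff]
    exact hAc x hx a ha
  have hAcyc : IsCyclic ↥A := isCyclic_of_injective (Subgroup.inclusion hle) (Subgroup.inclusion_injective hle)
  let φ : G →* MulAut ↥A := MulAut.conjNormal
  have hker : φ.ker ≤ Subgroup.centralizer ({a} : Set G) := by
    intro g hg
    rw [Subgroup.mem_centralizer_singleton_iff]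
    have h1 := congrArg Subtype.val (DFunLike.congr_fun (MonoidHom.mem_ker.1 hg) ⟨a, ha⟩)
    have h2 : g * a * g⁻¹ = a := by
      simpa [φ, MulAut.conjNormal_apply] using h1
    have := congrArg (fun z => z * g) h2
    simpa using this
  exact adjacent_of_comm φ (fun x y => mulAut_comm hAcyc _ _) hp hr hpr hpG hrG
    (fun h => hpC (h.trans (Subgroup.card_dvd_of_le hker))) (fun h => hrC (h.trans (Subgroup.card_dvd_of_le hker)))

end Cfsg.Agent.H946.Rad
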